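import Mathlib
import Cfsg.Agent.Lib.Helper8.J2MultA

/-!
# Equivariant lifts of a class of 3-transpositions: algebra

`Λ : Lifts σ T` is an equivariant family of involutions `Λ.L x` of a central extension `σ : Γ →* G`, indexed by the
points of a `G`-set, that lifts a family `T x` of involutions of `G` (helper8's `CanonLift`).

* rotations `Λ.L p * Λ.L q`: the three rotations of a triangle agree, two rotations whose mirrors form two "parallel
  classes" commute;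
* a central word of eight lifts, built from four rotations, is trivial as soon as some element of `G` reverses it
  (`kappa_eq_one`);
* products of lifts in two orders related by rotations of the word and by exchanges of commuting neighbours are
  conjugate (`conj_of_moves`);
* the family can be multiplied by a central involution of the kernel (`mulCentral`);
* a central extension with kernel in the commutator subgroup that has a homomorphic section is trivial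
  (`ker_eq_bot_of_section`).
-/

set_option autoImplicit false

namespace Cfsg.Agent.Lib.Helper5.Fi23Mult

open Cfsg.Agent.Lib.Helper8.CanonLift

section alg

variable {Γ G X : Type*} [Group Γ] [Group G] [MulAction G X] {σ : Γ →* G} {T : X → G} (Λ : Lifts σ T)

theorem rot_inv (p q : X) : (Λ.L p * Λ.L q)⁻¹ = Λ.L q * Λ.L p := by
  rw [mul_inv_rev, Λ.inv_L, Λ.inv_L]

/-- the third member of a triangle -/
theorem L_third {p q r : X} (h : T p • q = r) : Λ.L r = Λ.L p * Λ.L q * Λ.L p := by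
  rw [← h, Λ.conj' q p]

/-- the rotations of a triangle agree -/
theorem rot_third {p q r : X} (h : T p • q = r) : Λ.L p * Λ.L r = Λ.L q * Λ.L p := by
  rw [L_third Λ h]
  calc Λ.L p * (Λ.L p * Λ.L q * Λ.L p) = (Λ.L p * Λ.L p) * Λ.L q * Λ.L p := by group
    _ = Λ.L q * Λ.L p := by rw [Λ.sq, one_mul]

/-- a rotation has order three -/
theorem rot_pow_three {p q : X} (h : T p • q = T q • p) : (Λ.L p * Λ.L q) ^ 3 = 1 := by
  have h1 : Λ.L p * Λ.L q * Λ.L p = Λ.L q * Λ.L p * Λ.L q := by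
    rw [Λ.conj' q p, Λ.conj' p q, h]
  calc (Λ.L p * Λ.L q) ^ 3 = (Λ.L p * Λ.L q * Λ.L p) * (Λ.L q * Λ.L p * Λ.L q) := by
        rw [pow_succ, pow_two]; group
    _ = (Λ.L p * Λ.L q * Λ.L p) * (Λ.L p * Λ.L q * Λ.L p) := by rw [h1]
    _ = Λ.L p * Λ.L q * (Λ.L p * Λ.L p) * Λ.L q * Λ.L p := by group
    _ = Λ.L p * (Λ.L q * Λ.L q) * Λ.L p := by rw [Λ.sq]; group
    _ = 1 := by rw [Λ.sq, mul_one, Λ.sq]

/-- two rotations commute: `x1, y1` and `x3, y3` are two pairs of mirrors, `u0, u1, u2` the three mirrors of the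
third parallel class -/
theorem rot_comm {x1 y1 x3 y3 u0 u1 u2 : X} (hu0 : T x3 • x1 = u0) (hu1 : T x3 • y1 = u1)
    (hu1' : T y3 • x1 = u1) (hu2 : T y3 • y1 = u2) (hu2' : T u1 • u0 = u2) :
    (Λ.L x1 * Λ.L y1) * (Λ.L x3 * Λ.L y3) = (Λ.L x3 * Λ.L y3) * (Λ.L x1 * Λ.L y1) := by
  have hA : Λ.L x3 * (Λ.L x1 * Λ.L y1) * Λ.L x3 = Λ.L u0 * Λ.L u1 := by
    rw [← hu0, ← hu1, ← Λ.conj' x1 x3, ← Λ.conj' y1 x3]
    calc Λ.L x3 * (Λ.L x1 * Λ.L y1) * Λ.L x3 = Λ.L x3 * Λ.L x1 * 1 * Λ.L y1 * Λ.L x3 := by group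
      _ = Λ.L x3 * Λ.L x1 * (Λ.L x3 * Λ.L x3) * Λ.L y1 * Λ.L x3 := by rw [Λ.sq]
      _ = Λ.L x3 * Λ.L x1 * Λ.L x3 * (Λ.L x3 * Λ.L y1 * Λ.L x3) := by group
  have hB : Λ.L y3 * (Λ.L x1 * Λ.L y1) * Λ.L y3 = Λ.L u1 * Λ.L u2 := by
    rw [← hu1', ← hu2, ← Λ.conj' x1 y3, ← Λ.conj' y1 y3]
    calc Λ.L y3 * (Λ.L x1 * Λ.L y1) * Λ.L y3 = Λ.L y3 * Λ.L x1 * 1 * Λ.L y1 * Λ.L y3 := by group
      _ = Λ.L y3 * Λ.L x1 * (Λ.L y3 * Λ.L y3) * Λ.L y1 * Λ.L y3 := by rw [Λ.sq]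
      _ = Λ.L y3 * Λ.L x1 * Λ.L y3 * (Λ.L y3 * Λ.L y1 * Λ.L y3) := by group
  have hC : Λ.L u1 * Λ.L u2 = Λ.L u0 * Λ.L u1 := rot_third Λ hu2'
  have hAB : Λ.L x3 * (Λ.L x1 * Λ.L y1) * Λ.L x3 = Λ.L y3 * (Λ.L x1 * Λ.L y1) * Λ.L y3 := by
    rw [hA, hB, hC]
  calc (Λ.L x1 * Λ.L y1) * (Λ.L x3 * Λ.L y3)
      = (Λ.L x3 * Λ.L x3) * (Λ.L x1 * Λ.L y1) * (Λ.L x3 * Λ.L y3) := by rw [Λ.sq, one_mul]
    _ = Λ.L x3 * (Λ.L x3 * (Λ.L x1 * Λ.L y1) * Λ.L x3) * Λ.L y3 := by group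
    _ = Λ.L x3 * (Λ.L y3 * (Λ.L x1 * Λ.L y1) * Λ.L y3) * Λ.L y3 := by rw [hAB]
    _ = (Λ.L x3 * Λ.L y3) * (Λ.L x1 * Λ.L y1) * (Λ.L y3 * Λ.L y3) := by group
    _ = (Λ.L x3 * Λ.L y3) * (Λ.L x1 * Λ.L y1) := by rw [Λ.sq, mul_one]

/-- the quotient of two commuting rotations of order three has order three -/
theorem quot_pow_three {a b : Γ} (hab : a * b = b * a) (ha : a ^ 3 = 1) (hb : b ^ 3 = 1) :
    (a * b⁻¹) ^ 3 = 1 := by
  have hc : Commute a b⁻¹ := (show Commute a b from hab).inv_right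
  rw [hc.mul_pow, ha, inv_pow, hb, inv_one, one_mul]

/-- **the central word of four rotations**: if the eight mirrors `x1, y1, y3, x3, x5, y5, y6, x6` are such that the
rotations `x1 y1`, `x3 y3` commute, `x5 y5`, `x6 y6` commute, each mirror of the first four fixes each mirror of the
last four, the word lies in the kernel, and an element `g` of `G` maps the eight mirrors to
`x6, y6, y5, x5, x3, y3, x1, z1` with `z1` the third mirror of `x1, y1`, then the word is trivial -/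
theorem kappa_eq_one (hcen : σ.ker ≤ Subgroup.center Γ) (hsurj : Function.Surjective σ)
    {x1 y1 y3 x3 x5 y5 y6 x6 z1 : X}
    (h1 : T x1 • y1 = T y1 • x1) (h3 : T x3 • y3 = T y3 • x3)
    (h5 : T x5 • y5 = T y5 • x5) (h6 : T x6 • y6 = T y6 • x6)
    (c13 : (Λ.L x1 * Λ.L y1) * (Λ.L x3 * Λ.L y3) = (Λ.L x3 * Λ.L y3) * (Λ.L x1 * Λ.L y1))
    (c56 : (Λ.L x5 * Λ.L y5) * (Λ.L x6 * Λ.L y6) = (Λ.L x6 * Λ.L y6) * (Λ.L x5 * Λ.L y5))
    (hfix : ∀ p ∈ [x1, y1, y3, x3], ∀ q ∈ [x5, y5, y6, x6], T q • p = p)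
    (hker : T x1 * T y1 * (T y3 * T x3) * (T x5 * T y5) * (T y6 * T x6) = 1)
    (hz1 : T x1 • y1 = z1)
    (g : G) (g1 : g • x1 = x6) (g2 : g • y1 = y6) (g3 : g • y3 = y5) (g4 : g • x3 = x5)
    (g5 : g • x5 = x3) (g6 : g • y5 = y3) (g7 : g • y6 = x1) (g8 : g • x6 = z1) :
    Λ.L x1 * Λ.L y1 * (Λ.L y3 * Λ.L x3) * (Λ.L x5 * Λ.L y5) * (Λ.L y6 * Λ.L x6) = 1 := by
  set t1 := Λ.L x1 * Λ.L y1 with ht1
  set t3 := Λ.L x3 * Λ.L y3 with ht3
  set t5 := Λ.L x5 * Λ.L y5 with ht5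
  set t6 := Λ.L x6 * Λ.L y6 with ht6
  have i3 : Λ.L y3 * Λ.L x3 = t3⁻¹ := (rot_inv Λ x3 y3).symm
  have i6 : Λ.L y6 * Λ.L x6 = t6⁻¹ := (rot_inv Λ x6 y6).symm
  have i1 : Λ.L y1 * Λ.L x1 = t1⁻¹ := (rot_inv Λ x1 y1).symm
  have i5 : Λ.L y5 * Λ.L x5 = t5⁻¹ := (rot_inv Λ x5 y5).symm
  rw [i3, i6]
  set κ := t1 * t3⁻¹ * t5 * t6⁻¹ with hκ
  -- orders
  have o1 : t1 ^ 3 = 1 := rot_pow_three Λ h1
  have o3 : t3 ^ 3 = 1 := rot_pow_three Λ h3
  have o5 : t5 ^ 3 = 1 := rot_pow_three Λ h5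
  have o6 : t6 ^ 3 = 1 := rot_pow_three Λ h6
  have d13 : (t1 * t3⁻¹) ^ 3 = 1 := quot_pow_three c13 o1 o3
  have d56 : (t5 * t6⁻¹) ^ 3 = 1 := quot_pow_three c56 o5 o6
  -- the two halves commute
  have hLL : ∀ p ∈ [x1, y1, y3, x3], ∀ q ∈ [x5, y5, y6, x6], Commute (Λ.L p) (Λ.L q) :=
    fun p hp q hq => Λ.comm_of_fix (hfix p hp q hq)
  have cA : ∀ q ∈ [x5, y5, y6, x6], Commute (t1 * t3⁻¹) (Λ.L q) := by
    intro q hq
    have e : t1 * t3⁻¹ = Λ.L x1 * Λ.L y1 * (Λ.L y3 * Λ.L x3) := by rw [i3]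
    rw [e]
    exact (((hLL x1 (by simp) q hq).mul_left (hLL y1 (by simp) q hq)).mul_left
      ((hLL y3 (by simp) q hq).mul_left (hLL x3 (by simp) q hq)))
  have cAB : Commute (t1 * t3⁻¹) (t5 * t6⁻¹) := by
    have e : t5 * t6⁻¹ = Λ.L x5 * Λ.L y5 * (Λ.L y6 * Λ.L x6) := by rw [i6]
    rw [e]
    exact ((cA x5 (by simp)).mul_right (cA y5 (by simp))).mul_right
      ((cA y6 (by simp)).mul_right (cA x6 (by simp)))
  have hκ' : κ = (t1 * t3⁻¹) * (t5 * t6⁻¹) := by rw [hκ]; group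
  have k3 : κ ^ 3 = 1 := by rw [hκ', cAB.mul_pow, d13, d56, one_mul]
  -- the word lies in the kernel
  have hk : σ κ = 1 := by
    rw [hκ, ← i3, ← i6, ht1, ht5]
    simp only [map_mul, Λ.map]
    exact hker
  have hcent : ∀ y : Γ, κ * y = y * κ := fun y => comm_of_ker σ hcen hk y
  -- the reversing element
  obtain ⟨γ, hγ⟩ := hsurj g
  have cj : ∀ p : X, γ * Λ.L p * γ⁻¹ = Λ.L (g • p) := fun p => by rw [Λ.conj, hγ]
  have hz : Λ.L x1 * Λ.L z1 = t1⁻¹ := by rw [rot_third Λ hz1, i1]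
  have hrev : γ * κ * γ⁻¹ = κ⁻¹ := by
    have e : κ = Λ.L x1 * Λ.L y1 * (Λ.L y3 * Λ.L x3) * (Λ.L x5 * Λ.L y5) * (Λ.L y6 * Λ.L x6) := by
      rw [hκ, i3, i6]
    have e2 : γ * κ * γ⁻¹ = (γ * Λ.L x1 * γ⁻¹) * (γ * Λ.L y1 * γ⁻¹) * ((γ * Λ.L y3 * γ⁻¹) * (γ * Λ.L x3 * γ⁻¹)) *
        ((γ * Λ.L x5 * γ⁻¹) * (γ * Λ.L y5 * γ⁻¹)) * ((γ * Λ.L y6 * γ⁻¹) * (γ * Λ.L x6 * γ⁻¹)) := by
      rw [e]; group
    rw [e2, cj, cj, cj, cj, cj, cj, cj, cj, g1, g2, g3, g4, g5, g6, g7, g8, hz, i5]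
    rw [hκ]
    show t6 * t5⁻¹ * t3 * t1⁻¹ = (t1 * t3⁻¹ * t5 * t6⁻¹)⁻¹
    group
  have k2 : κ * κ = 1 := by
    have h := hcent γ
    have : γ * κ * γ⁻¹ = κ := by rw [← h]; group
    rw [this] at hrev
    calc κ * κ = κ * κ⁻¹ := by rw [← hrev]
      _ = 1 := mul_inv_cancel κ
  calc κ = κ ^ 3 * (κ * κ)⁻¹ := by rw [pow_succ, pow_two]; group
    _ = 1 := by rw [k3, k2, inv_one, one_mul]

/-! ### multiplying the family by a central involution of the kernel -/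

/-- the family multiplied by a central involution of the kernel -/
def mulCentral (ε : Γ) (hε : σ ε = 1) (hc : ∀ y : Γ, ε * y = y * ε) (h2 : ε * ε = 1) : Lifts σ T where
  L x := Λ.L x * ε
  map x := by rw [map_mul, Λ.map, hε, mul_one]
  conj h x := by
    rw [← Λ.conj h x]
    calc h * (Λ.L x * ε) * h⁻¹ = h * Λ.L x * (ε * h⁻¹) := by group
      _ = h * Λ.L x * (h⁻¹ * ε) := by rw [hc]
      _ = h * Λ.L x * h⁻¹ * ε := by group
  sq x := by
    calc Λ.L x * ε * (Λ.L x * ε) = Λ.L x * (ε * Λ.L x) * ε := by group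
      _ = Λ.L x * (Λ.L x * ε) * ε := by rw [hc]
      _ = (Λ.L x * Λ.L x) * (ε * ε) := by group
      _ = 1 := by rw [Λ.sq, h2, one_mul]

theorem mulCentral_L (ε : Γ) (hε : σ ε = 1) (hc : ∀ y : Γ, ε * y = y * ε) (h2 : ε * ε = 1) (x : X) :
    (mulCentral Λ ε hε hc h2).L x = Λ.L x * ε := rfl

end alg

/-! ### words under rotations and exchanges of commuting neighbours -/

section moves

variable {Γ : Type*} [Group Γ]

/-- a move on a word: `0` puts the first letter at the end, `1` puts the last letter in front, `i + 2` exchanges the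
letters at the places `i` and `i + 1` -/
def mv (l : List ℕ) : ℕ → List ℕ
  | 0 => l.rotate 1
  | 1 => l.rotate (l.length - 1)
  | (i + 2) => l.take i ++ (l.getD (i + 1) 0 :: l.getD i 0 :: l.drop (i + 2))

/-- the move is allowed: an exchange needs two commuting letters at the two places -/
def mvOK (cm : ℕ → ℕ → Bool) (l : List ℕ) : ℕ → Bool
  | 0 => Nat.blt 0 l.length
  | 1 => Nat.blt 0 l.length
  | (i + 2) => Nat.blt (i + 1) l.length && cm (l.getD i 0) (l.getD (i + 1) 0)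

/-- all the moves of a list are allowed -/
def mvsOK (cm : ℕ → ℕ → Bool) : List ℕ → List ℕ → Bool
  | _, [] => true
  | l, m :: ms => mvOK cm l m && mvsOK cm (mv l m) ms

/-- the word after the moves -/
def mvs : List ℕ → List ℕ → List ℕ
  | l, [] => l
  | l, m :: ms => mvs (mv l m) ms

theorem prod_rotate_conj (f : ℕ → Γ) (l : List ℕ) (k : ℕ) (hk : k ≤ l.length) :
    ∃ u : Γ, u * (l.map f).prod * u⁻¹ = ((l.rotate k).map f).prod := by
  refine ⟨(((l.take k).map f).prod)⁻¹, ?_⟩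
  have e : (l.map f).prod = ((l.take k).map f).prod * ((l.drop k).map f).prod := by
    rw [← List.prod_append, ← List.map_append, List.take_append_drop]
  rw [List.rotate_eq_drop_append_take hk, List.map_append, List.prod_append, e]
  group

/-- the product along the reversed word of involutions -/
theorem prod_reverse_invol (f : ℕ → Γ) (hf : ∀ x, f x * f x = 1) :
    ∀ l : List ℕ, ((l.reverse).map f).prod = ((l.map f).prod)⁻¹
  | [] => by simp
  | x :: l => by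
    rw [List.reverse_cons, List.map_append, List.prod_append, prod_reverse_invol f hf l, List.map_cons,
      List.map_nil, List.prod_cons, List.prod_nil, mul_one, List.map_cons, List.prod_cons, mul_inv_rev,
      inv_eq_of_mul_eq_one_left (hf x)]

theorem prod_mv (f : ℕ → Γ) (cm : ℕ → ℕ → Bool) (hcm : ∀ x y, cm x y = true → f x * f y = f y * f x)
    (l : List ℕ) (m : ℕ) (h : mvOK cm l m = true) :
    ∃ u : Γ, u * (l.map f).prod * u⁻¹ = ((mv l m).map f).prod := by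
  match m, h with
  | 0, h =>
    unfold mvOK at h
    rw [Nat.blt_eq] at h
    exact prod_rotate_conj f l 1 h
  | 1, h =>
    unfold mvOK at h
    rw [Nat.blt_eq] at h
    exact prod_rotate_conj f l (l.length - 1) (Nat.sub_le _ _)
  | (i + 2), h =>
    unfold mvOK at h
    rw [Bool.and_eq_true, Nat.blt_eq] at h
    obtain ⟨hlt, hc⟩ := h
    refine ⟨1, ?_⟩
    rw [one_mul, inv_one, mul_one]
    have hsplit : l = l.take i ++ (l.getD i 0 :: l.getD (i + 1) 0 :: l.drop (i + 2)) := by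
      have h1 : i < l.length := by omega
      conv_lhs => rw [← List.take_append_drop i l]
      congr 1
      rw [List.drop_eq_getElem_cons h1, List.getD_eq_getElem _ _ h1]
      congr 1
      rw [List.drop_eq_getElem_cons hlt, List.getD_eq_getElem _ _ hlt]
    conv_lhs => rw [hsplit]
    unfold mv
    simp only [List.map_append, List.map_cons, List.prod_append, List.prod_cons]
    rw [← mul_assoc (f _) (f _), hcm _ _ hc, mul_assoc]

theorem conj_of_moves (f : ℕ → Γ) (cm : ℕ → ℕ → Bool) (hcm : ∀ x y, cm x y = true → f x * f y = f y * f x) :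
    ∀ (ms l : List ℕ), mvsOK cm l ms = true → ∃ u : Γ, u * (l.map f).prod * u⁻¹ = ((mvs l ms).map f).prod
  | [], l, _ => ⟨1, by rw [one_mul, inv_one, mul_one]; rfl⟩
  | m :: ms, l, h => by
    unfold mvsOK at h
    rw [Bool.and_eq_true] at h
    obtain ⟨u, hu⟩ := prod_mv f cm hcm l m h.1
    obtain ⟨v, hv⟩ := conj_of_moves f cm hcm ms (mv l m) h.2
    refine ⟨v * u, ?_⟩
    show (v * u) * (l.map f).prod * (v * u)⁻¹ = ((mvs (mv l m) ms).map f).prod
    rw [← hv, ← hu]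
    group

/-- a central power of a product of involutions whose reversed word is reached by moves is an involution -/
theorem central_pow_sq (f : ℕ → Γ) (hf : ∀ x, f x * f x = 1) (cm : ℕ → ℕ → Bool)
    (hcm : ∀ x y, cm x y = true → f x * f y = f y * f x) (l ms : List ℕ) (hms : mvsOK cm l ms = true)
    (hrev : mvs l ms = l.reverse) (n : ℕ) (hc : ∀ y : Γ, (l.map f).prod ^ n * y = y * (l.map f).prod ^ n) :
    (l.map f).prod ^ n * (l.map f).prod ^ n = 1 := by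
  obtain ⟨u, hu⟩ := conj_of_moves f cm hcm ms l hms
  rw [hrev] at hu
  have hinv := prod_reverse_invol f hf l
  rw [hinv] at hu
  set c := (l.map f).prod with hcdef
  have h1 : u * c ^ n * u⁻¹ = (c⁻¹) ^ n := by
    rw [← hu, conj_pow]
  have h2 : u * c ^ n * u⁻¹ = c ^ n := by
    rw [← hc u]; group
  rw [h2, inv_pow] at h1
  calc c ^ n * c ^ n = c ^ n * (c ^ n)⁻¹ := by rw [← h1]
    _ = 1 := mul_inv_cancel _

end moves

/-! ### a section -/

section section_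

variable {Γ G : Type*} [Group Γ] [Group G]

theorem proj_mem (σ : Γ →* G) (φ : G →* Γ) (hφ : ∀ g, σ (φ g) = g) (y : Γ) : y * (φ (σ y))⁻¹ ∈ σ.ker := by
  rw [MonoidHom.mem_ker, map_mul, map_inv, hφ, mul_inv_cancel]

theorem proj_mul (σ : Γ →* G) (hcen : σ.ker ≤ Subgroup.center Γ) (φ : G →* Γ) (hφ : ∀ g, σ (φ g) = g)
    (a b : Γ) : a * b * (φ (σ (a * b)))⁻¹ = a * (φ (σ a))⁻¹ * (b * (φ (σ b))⁻¹) := by
  have hc := Subgroup.mem_center_iff.1 (hcen (proj_mem σ φ hφ b)) ((φ (σ a))⁻¹)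
  rw [map_mul, map_mul, mul_inv_rev]
  calc a * b * ((φ (σ b))⁻¹ * (φ (σ a))⁻¹) = a * ((b * (φ (σ b))⁻¹) * (φ (σ a))⁻¹) := by group
    _ = a * ((φ (σ a))⁻¹ * (b * (φ (σ b))⁻¹)) := by rw [hc]
    _ = a * (φ (σ a))⁻¹ * (b * (φ (σ b))⁻¹) := by group

/-- the projection to the kernel along a homomorphic section -/
noncomputable def kerProj (σ : Γ →* G) (hcen : σ.ker ≤ Subgroup.center Γ) (φ : G →* Γ) (hφ : ∀ g, σ (φ g) = g) :
    Γ →* ↥(Subgroup.center Γ) where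
  toFun y := ⟨y * (φ (σ y))⁻¹, hcen (proj_mem σ φ hφ y)⟩
  map_one' := by
    apply Subtype.ext
    show (1 : Γ) * (φ (σ 1))⁻¹ = 1
    rw [map_one, map_one, inv_one, mul_one]
  map_mul' a b := Subtype.ext (proj_mul σ hcen φ hφ a b)

/-- a central extension with kernel in the commutator subgroup and a homomorphic section is trivial -/
theorem ker_eq_bot_of_section (σ : Γ →* G) (hcen : σ.ker ≤ Subgroup.center Γ) (hder : σ.ker ≤ commutator Γ)
    (φ : G →* Γ) (hφ : ∀ g, σ (φ g) = g) : σ.ker = ⊥ := by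
  have hπ : commutator Γ ≤ (kerProj σ hcen φ hφ).ker := by
    rw [commutator_def, Subgroup.commutator_le]
    intro a _ b _
    have hab : kerProj σ hcen φ hφ a * kerProj σ hcen φ hφ b = kerProj σ hcen φ hφ b * kerProj σ hcen φ hφ a := by
      apply Subtype.ext
      exact Subgroup.mem_center_iff.1 (kerProj σ hcen φ hφ b).2 (kerProj σ hcen φ hφ a)
    rw [MonoidHom.mem_ker, map_commutatorElement, commutatorElement_def, hab]
    group
  rw [eq_bot_iff]
  intro y hy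
  have h1 : kerProj σ hcen φ hφ y = 1 := MonoidHom.mem_ker.1 (hπ (hder hy))
  have h2 : ((kerProj σ hcen φ hφ y : ↥(Subgroup.center Γ)) : Γ) = y * (φ (σ y))⁻¹ := rfl
  rw [h1, MonoidHom.mem_ker.1 hy, map_one, inv_one, mul_one] at h2
  rw [Subgroup.mem_bot, ← h2]
  rfl

end section_

end Cfsg.Agent.Lib.Helper5.Fi23Mult
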