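import Cfsg.Agent.Lib.Helper6.Fi23T3
import Cfsg.Agent.Lib.Helper6.SimpWPC
import Cfsg.Agent.Lib.Helper5.Fi22Mult.Tr
import Cfsg.Agent.Lib.Helper5.SuzMult.Gen
import Cfsg.Agent.Lib.Helper5.Fi23Mult.Alg

/-!
# The presented Fischer group `Fi23`: the transpositions as points of the coset table

helper6's `Fi23T3`: `z = (b c d e f g h)^9` is an involution whose centraliser is the subgroup `H` generated by
`a, …, i`, of index 31671, and `ρ` is the faithful action on the 31671 rows of the coset table, the stabiliser of the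
row `0` being `H`.  Hence the cosets of `H` (the points of the transpositions `g z g⁻¹`) are the rows: two words in the
ten generators give the same point as soon as they move the row `0` to the same row.  `H` is perfect.  Each generator
is the conjugate of `z` by an explicit word, so it is the transposition of a point `xF i`; the point of a palindrome in
the family `xF` is the point of a word.
-/

set_option autoImplicit false
set_option maxRecDepth 100000

noncomputable section

namespace Cfsg.Agent.Lib.Helper5.Fi23Mult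

open Cfsg Cfsg.Spor Cfsg.Agent.Lib.Helper6 Cfsg.Agent.Lib.Helper6.TC Cfsg.Agent.Lib.Helper6.Simp
open Cfsg.Agent.Lib.Helper6.Fi23T3 (z z_mul_self H z_comm ρ o ρ_inj ρ_wordG_apply stab_mem zw)
open Cfsg.Agent.Lib.Helper5.J3Mult (Cz palW perfect_congr)
open Cfsg.Agent.Lib.Helper5.SuzMult (Tq0 Tq0_mk Tq0_conj Tq0_sq palP0 perfect_closure_invol)

/-- the element of a word in the ten generators `a, b, c, d, e, f, g, j, h, i` (letters `0, …, 9`) -/
noncomputable def gw (w : List ℕ) : Fi23 := Simp.wordG Fi23TC.data w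

/-- the generator with the number `x` -/
noncomputable def genE (x : ℕ) : Fi23 := PresentedGroup.of (Fi23TC.data.gen x)

theorem gw_nil : gw [] = 1 := rfl

theorem gw_cons (x : ℕ) (w : List ℕ) : gw (x :: w) = genE x * gw w := by
  unfold gw Simp.wordG genE
  rw [List.map_cons, List.prod_cons]

theorem gw_append (u v : List ℕ) : gw (u ++ v) = gw u * gw v := SimpWPC.wordG_append Fi23TC.data u v

theorem gw_reverse (w : List ℕ) : gw w.reverse = (gw w)⁻¹ := SimpWPC.wordG_reverse Fi23TC.data w

theorem gw_eq_prod (w : List ℕ) : gw w = (w.map genE).prod := rfl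

theorem genE_sq (x : ℕ) : genE x * genE x = 1 := SimpWPC.of_mul_self Fi23TC.data _

theorem genE_inv (x : ℕ) : (genE x)⁻¹ = genE x := inv_eq_of_mul_eq_one_left (genE_sq x)

theorem gw_single (x : ℕ) : gw [x] = genE x := by rw [gw_cons, gw_nil, mul_one]

/-! ### rows and points -/

/-- the row of the coset table to which a word moves the row `0` -/
def rowW (w : List ℕ) : ℕ := Fi23TC.tab.trace 0 w.reverse

/-- the letters of a word are generators -/
def letW (w : List ℕ) : Bool := w.all fun x => Nat.blt x 10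

theorem lt_of_letW {w : List ℕ} (h : letW w = true) : ∀ x ∈ w, x < 10 := by
  intro x hx
  have := List.all_eq_true.1 h x hx
  rwa [Nat.blt_eq] at this

theorem o_val : (o : Fin Fi23TC.data.T.n).val = 0 := rfl

theorem row_gw {w : List ℕ} (hw : letW w = true) : (ρ (gw w) o).val = rowW w := by
  have h := ρ_wordG_apply (lt_of_letW hw) o
  rw [o_val] at h
  exact h

theorem hC0 : H ≤ Cz z := by
  intro h hh
  show h ∈ Subgroup.centralizer ({z} : Set Fi23)
  rw [Subgroup.mem_centralizer_singleton_iff]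
  exact z_comm h hh

/-- the point of a word: the coset of `H`, which belongs to the transposition `g z g⁻¹` -/
noncomputable def pt (w : List ℕ) : Fi23 ⧸ H := ((gw w : Fi23) : Fi23 ⧸ H)

/-- **two words that move the row `0` to the same row give the same point** -/
theorem pt_eq_of_row {w1 w2 : List ℕ} (h1 : letW w1 = true) (h2 : letW w2 = true)
    (h : rowW w1 = rowW w2) : pt w1 = pt w2 := by
  unfold pt
  rw [QuotientGroup.eq]
  apply stab_mem
  rw [map_mul, map_inv, Equiv.Perm.mul_apply, Equiv.Perm.inv_eq_iff_eq]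
  apply Fin.ext
  rw [row_gw h2, row_gw h1, h]

/-- the check of the equality of two points -/
def ptOK (w1 w2 : List ℕ) : Bool := letW w1 && (letW w2 && Nat.beq (rowW w1) (rowW w2))

theorem pt_eq_of_ptOK {w1 w2 : List ℕ} (h : ptOK w1 w2 = true) : pt w1 = pt w2 := by
  unfold ptOK at h
  rw [Bool.and_eq_true, Bool.and_eq_true] at h
  exact pt_eq_of_row h.1 h.2.1 (Nat.eq_of_beq_eq_true h.2.2)

theorem smul_pt (u w : List ℕ) : gw u • pt w = pt (u ++ w) := by
  unfold pt
  rw [MulAction.Quotient.smul_mk, smul_eq_mul, gw_append]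

/-! ### the generators are transpositions -/

/-- the conjugating words: `gw (uW x) * z * (gw (uW x))⁻¹` is the generator `x` -/
def uW : ℕ → List ℕ
  | 0 => [1, 0, 2, 1, 3, 2, 4, 3, 5, 4, 6, 5, 7, 6] ++ (zw ++ [7])
  | 1 => [2, 1, 3, 2, 4, 3, 5, 4, 6, 5, 7, 6] ++ (zw ++ [7])
  | 2 => [3, 2, 4, 3, 5, 4, 6, 5, 7, 6] ++ (zw ++ [7])
  | 3 => [4, 3, 5, 4, 6, 5, 7, 6] ++ (zw ++ [7])
  | 4 => [5, 4, 6, 5, 7, 6] ++ (zw ++ [7])
  | 5 => [6, 5, 7, 6] ++ (zw ++ [7])
  | 6 => [7, 6] ++ (zw ++ [7])
  | 7 => zw ++ [7]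
  | 8 => [3, 8, 4, 3, 5, 4, 6, 5, 7, 6] ++ (zw ++ [7])
  | _ => [8, 9, 3, 8, 4, 3, 5, 4, 6, 5, 7, 6] ++ (zw ++ [7])

theorem gw_zw : gw zw = z := Fi23T3.z_eq.symm

theorem braid_gen {x y : ℕ} (_hx : x < 10) (_hy : y < 10)
    (h3 : coxLabel Fi23.edges (Fi23TC.data.gen x) (Fi23TC.data.gen y) = 3) : (genE x * genE y) ^ 3 = 1 :=
  of_braid (extra := Fi23.extra) Fi23TC.data.hnode _ _ h3

/-- one step along an edge of the diagram -/
theorem conj_step {x y : ℕ} (h3 : (genE x * genE y) ^ 3 = 1) {u : List ℕ}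
    (hu : gw u * z * (gw u)⁻¹ = genE x) : gw (x :: y :: u) * z * (gw (x :: y :: u))⁻¹ = genE y := by
  rw [gw_cons, gw_cons]
  have h := conj_of_braid (genE_sq x) (genE_sq y) h3
  calc genE x * (genE y * gw u) * z * (genE x * (genE y * gw u))⁻¹
      = (genE x * genE y) * (gw u * z * (gw u)⁻¹) * (genE x * genE y)⁻¹ := by group
    _ = genE y := by rw [hu, ← h]

theorem conj7 : gw (uW 7) * z * (gw (uW 7))⁻¹ = genE 7 := by
  show gw (zw ++ [7]) * z * (gw (zw ++ [7]))⁻¹ = genE 7
  rw [gw_append, gw_zw, gw_single]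
  exact Fi23T3.conj_zj

theorem lab (x y : ℕ) (h : coxLabel Fi23.edges (Fi23TC.data.gen x) (Fi23TC.data.gen y) = 3 := by decide)
    (hx : x < 10 := by norm_num) (hy : y < 10 := by norm_num) : (genE x * genE y) ^ 3 = 1 :=
  braid_gen hx hy h

theorem conj6 : gw (uW 6) * z * (gw (uW 6))⁻¹ = genE 6 := conj_step (lab 7 6) conj7
theorem conj5 : gw (uW 5) * z * (gw (uW 5))⁻¹ = genE 5 := conj_step (lab 6 5) conj6
theorem conj4 : gw (uW 4) * z * (gw (uW 4))⁻¹ = genE 4 := conj_step (lab 5 4) conj5
theorem conj3 : gw (uW 3) * z * (gw (uW 3))⁻¹ = genE 3 := conj_step (lab 4 3) conj4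
theorem conj2 : gw (uW 2) * z * (gw (uW 2))⁻¹ = genE 2 := conj_step (lab 3 2) conj3
theorem conj1 : gw (uW 1) * z * (gw (uW 1))⁻¹ = genE 1 := conj_step (lab 2 1) conj2
theorem conj0 : gw (uW 0) * z * (gw (uW 0))⁻¹ = genE 0 := conj_step (lab 1 0) conj1
theorem conj8 : gw (uW 8) * z * (gw (uW 8))⁻¹ = genE 8 := conj_step (lab 3 8) conj3
theorem conj9 : gw (uW 9) * z * (gw (uW 9))⁻¹ = genE 9 := conj_step (lab 8 9) conj8

/-- **every generator is the conjugate of `z` by its word** -/
theorem conj_gen : ∀ x, x < 10 → gw (uW x) * z * (gw (uW x))⁻¹ = genE x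
  | 0, _ => conj0
  | 1, _ => conj1
  | 2, _ => conj2
  | 3, _ => conj3
  | 4, _ => conj4
  | 5, _ => conj5
  | 6, _ => conj6
  | 7, _ => conj7
  | 8, _ => conj8
  | 9, _ => conj9
  | (n + 10), h => absurd h (by omega)

/-! ### the family -/

/-- the numbers of the generators in the order of the family: `b, c, d, e, f, h, i`, then `a, g, j` -/
def famf (i : ℕ) : ℕ := [1, 2, 3, 4, 5, 8, 9, 0, 6, 7].getD i 0

theorem famf_lt (i : ℕ) : famf i < 10 := by
  unfold famf
  by_cases h : i < 10
  · interval_cases i <;> decide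
  · rw [List.getD_eq_default _ _ (by simpa using h)]
    norm_num

/-- the points of the family -/
noncomputable def xF (i : ℕ) : Fi23 ⧸ H := pt (uW (famf i))

/-- the members of the family: the generators, in the order of the family -/
noncomputable def tF (i : ℕ) : Fi23 := genE (famf i)

theorem Tq0_xF (i : ℕ) : Tq0 z H hC0 (xF i) = tF i := by
  unfold xF pt tF
  rw [Tq0_mk]
  exact conj_gen _ (famf_lt i)

theorem tF_sq (i : ℕ) : tF i * tF i = 1 := genE_sq _

theorem prod_tF (l : List ℕ) : (l.map fun i => Tq0 z H hC0 (xF i)).prod = gw (l.map famf) := by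
  rw [gw_eq_prod, List.map_map]
  congr 1
  apply List.map_congr_left
  intro i _
  exact Tq0_xF i

/-- the word of the point of a palindrome -/
def palWd (h : List ℕ) (c : ℕ) : List ℕ := h.reverse.map famf ++ uW (famf c)

/-- **the point of a palindrome in the family is the point of a word** -/
theorem palP0_eq_pt (h : List ℕ) (c : ℕ) : palP0 z H hC0 xF h c = pt (palWd h c) := by
  unfold palP0 palWd
  rw [prod_tF, xF, smul_pt]

/-- the check of a coincidence of two palindromes -/
def relOK23 (q : List ℕ × ℕ × List ℕ × ℕ) : Bool := ptOK (palWd q.1 q.2.1) (palWd q.2.2.1 q.2.2.2)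

theorem point_eq_of_relOK23 {q : List ℕ × ℕ × List ℕ × ℕ} (h : relOK23 q = true) :
    palP0 z H hC0 xF q.1 q.2.1 = palP0 z H hC0 xF q.2.2.1 q.2.2.2 := by
  rw [palP0_eq_pt, palP0_eq_pt]
  exact pt_eq_of_ptOK h

/-! ### `H` is perfect -/

/-- the generators of `H`, with `a` once more at the place of `j` -/
noncomputable def kH (i : ℕ) : Fi23 := if i = 7 then genE 0 else genE i

/-- the parents in the diagram of `H` -/
def parH (i : ℕ) : ℕ := [0, 0, 1, 2, 3, 4, 5, 0, 3, 8].getD i 0

theorem H_eq_closure : H = Subgroup.closure (kH '' Set.Iio 10) := by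
  apply le_antisymm
  · show (Subgroup.closure Fi23TC.S).map _ ≤ _
    rw [Subgroup.map_le_iff_le_comap, Subgroup.closure_le]
    intro s hs
    rw [SetLike.mem_coe, Subgroup.mem_comap]
    simp only [Fi23TC.S, Set.mem_insert_iff, Set.mem_singleton_iff] at hs
    rcases hs with rfl | rfl | rfl | rfl | rfl | rfl | rfl | rfl | rfl
    · exact Subgroup.subset_closure ⟨0, by norm_num, rfl⟩
    · exact Subgroup.subset_closure ⟨1, by norm_num, rfl⟩
    · exact Subgroup.subset_closure ⟨2, by norm_num, rfl⟩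
    · exact Subgroup.subset_closure ⟨3, by norm_num, rfl⟩
    · exact Subgroup.subset_closure ⟨4, by norm_num, rfl⟩
    · exact Subgroup.subset_closure ⟨5, by norm_num, rfl⟩
    · exact Subgroup.subset_closure ⟨6, by norm_num, rfl⟩
    · exact Subgroup.subset_closure ⟨8, by norm_num, rfl⟩
    · exact Subgroup.subset_closure ⟨9, by norm_num, rfl⟩
  · rw [Subgroup.closure_le]
    rintro _ ⟨i, hi, rfl⟩
    have hi' : i < 10 := hi
    have hm : ∀ s ∈ Fi23TC.S, (PresentedGroup.mk _ s : Fi23) ∈ H := fun s hs =>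
      ⟨s, Subgroup.subset_closure hs, rfl⟩
    interval_cases i
    · exact hm Fi23.a (by simp [Fi23TC.S])
    · exact hm Fi23.b (by simp [Fi23TC.S])
    · exact hm Fi23.c (by simp [Fi23TC.S])
    · exact hm Fi23.d (by simp [Fi23TC.S])
    · exact hm Fi23.e (by simp [Fi23TC.S])
    · exact hm Fi23.f (by simp [Fi23TC.S])
    · exact hm Fi23.g (by simp [Fi23TC.S])
    · exact hm Fi23.a (by simp [Fi23TC.S])
    · exact hm Fi23.h (by simp [Fi23TC.S])
    · exact hm Fi23.i (by simp [Fi23TC.S])

theorem kH_sq (i : ℕ) : kH i * kH i = 1 := by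
  unfold kH
  split_ifs <;> exact genE_sq _

theorem kH_link : ∀ i, i < 10 → (kH i * kH (parH i)) ^ 3 = 1 := by
  intro i hi
  have h0 : (genE 0 * genE 0) ^ 3 = 1 := by rw [genE_sq, one_pow]
  interval_cases i
  · exact h0
  · exact lab 1 0
  · exact lab 2 1
  · exact lab 3 2
  · exact lab 4 3
  · exact lab 5 4
  · exact lab 6 5
  · exact h0
  · exact lab 8 3
  · exact lab 9 8

/-- the word `(a b c d e f h)^9` -/
def oddH : List ℕ := [0, 1, 2, 3, 4, 5, 8, 0, 1, 2, 3, 4, 5, 8, 0, 1, 2, 3, 4, 5, 8, 0, 1, 2, 3, 4, 5, 8, 0, 1, 2, 3, 4,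
  5, 8, 0, 1, 2, 3, 4, 5, 8, 0, 1, 2, 3, 4, 5, 8, 0, 1, 2, 3, 4, 5, 8, 0, 1, 2, 3, 4, 5, 8]

/-- the words of the further relators are trivial -/
theorem extra_words : ∀ w ∈ Fi23TC.extraWords, (w.map genE).prod = 1 := by
  have h := (Fi23TC.data.hextra (fun y => (PresentedGroup.of y : Fi23))
    (fun y => of_mul_self Fi23TC.data.hnode y)).1
  apply h
  intro r hr
  have hm : r ∈ coxRelators Fi23.edges ∪ {r | r ∈ Fi23.extra} := Or.inr hr
  have h1 := PresentedGroup.one_of_mem hm
  rw [← h1]
  have e : FreeGroup.lift (fun y => (PresentedGroup.of y : Fi23)) =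
      PresentedGroup.mk (coxRelators Fi23.edges ∪ {r | r ∈ Fi23.extra}) := by
    ext y
    simp [PresentedGroup.of]
  rw [e]

theorem oddH_mem : oddH ∈ Fi23TC.extraWords := by decide

theorem oddH_prod : (oddH.map kH).prod = 1 := by
  have e : oddH.map kH = oddH.map genE := by
    apply List.map_congr_left
    intro x hx
    have h7 : x ≠ 7 := by
      have : ∀ y ∈ oddH, y ≠ 7 := by decide
      exact this x hx
    unfold kH
    rw [if_neg h7]
  rw [e]
  exact extra_words oddH oddH_mem

/-- **the centraliser of the transposition is perfect** -/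
theorem perfect_H : commutator ↥H = ⊤ := by
  have h := perfect_closure_invol kH 10 parH (fun i _ => kH_sq i)
    (by intro i hi; interval_cases i <;> decide) kH_link
    (by intro i hi; interval_cases i <;> decide) oddH (by decide) (by decide) oddH_prod
  exact perfect_congr H_eq_closure h

end Cfsg.Agent.Lib.Helper5.Fi23Mult

end
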