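import Cfsg.Agent.Lib.Helper5.Fi23Mult.Base
import Cfsg.Agent.Lib.Helper5.Fi23Mult.Data

/-!
# The certificates for the Schur multiplier of `Fi23`: definitions

Three coset certificates (`720`, `72` and `243` rows: the chain `S₆ < W(E₆) < 3^5 : W(E₆)` in the lifts of
`b, c, d, e, f, h, i`) read from packed numerals.  Their words are products of two palindromes with the same point (the
same row of the coset table of `Fi23` on 31671 rows) and, for the last one, the central word of eight mirrors.  The
checks that the kernel evaluates are stated here as boolean functions.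
-/

set_option autoImplicit false

noncomputable section

namespace Cfsg.Agent.Lib.Helper5.Fi23Mult

open Cfsg.Spor Cfsg.Agent.Lib.Helper6
open Cfsg.Agent.Lib.Helper5.SuzMult (longW c0w letOK)
open Cfsg.Agent.Lib.Helper5.J3Mult (FCert palW)
open Cfsg.Agent.Lib.Helper5.Fi22Mult (manyW)

/-- the check of a coincidence -/
def relF (c : (List ℕ × ℕ × List ℕ × ℕ) × List ℕ) : Bool := relOK23 c.1

/-- the central word: the palindromes of the eight mirrors -/
def kapW : List ℕ := manyW kapL

/-- a certificate read from packed entries: table (17 bits), time (20), kind (2), row (17), word (12), place (7) -/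
def mkCert7 (n g nsub : ℕ) (ent par : ℕ → ℕ) (W : ℕ → List ℕ) : FCert where
  n := n
  g := g
  nsub := nsub
  Tg a x := ent (a * g + x) % 131072
  tg a x := (ent (a * g + x) >>> 17) % 1048576
  kd a x := (ent (a * g + x) >>> 37) % 4
  rs a x := (ent (a * g + x) >>> 39) % 131072
  rw a x := (ent (a * g + x) >>> 56) % 4096
  rp a x := (ent (a * g + x) >>> 68) % 128
  pa b := par b / g
  px b := par b % g
  W := W

noncomputable def chA0_n0_0 (j : ℕ) : ℕ := (Bool.rec (motive := fun _ => ℕ) (Bool.rec (motive := fun _ => ℕ) (Bool.rec (motive := fun _ => ℕ) cA0_0 cA0_1 (Nat.ble 1 j)) (Bool.rec (motive := fun _ => ℕ) cA0_2 cA0_3 (Nat.ble 3 j)) (Nat.ble 2 j)) (Bool.rec (motive := fun _ => ℕ) (Bool.rec (motive := fun _ => ℕ) cA0_4 cA0_5 (Nat.ble 5 j)) (Bool.rec (motive := fun _ => ℕ) cA0_6 cA0_7 (Nat.ble 7 j)) (Nat.ble 6 j)) (Nat.ble 4 j))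
noncomputable def chA0_n0_1 (j : ℕ) : ℕ := (Bool.rec (motive := fun _ => ℕ) (Bool.rec (motive := fun _ => ℕ) cA0_8 (Bool.rec (motive := fun _ => ℕ) cA0_9 cA0_10 (Nat.ble 10 j)) (Nat.ble 9 j)) (Bool.rec (motive := fun _ => ℕ) (Bool.rec (motive := fun _ => ℕ) cA0_11 cA0_12 (Nat.ble 12 j)) (Bool.rec (motive := fun _ => ℕ) cA0_13 cA0_14 (Nat.ble 14 j)) (Nat.ble 13 j)) (Nat.ble 11 j))
noncomputable def chA0_n1_0 (j : ℕ) : ℕ := (Bool.rec (motive := fun _ => ℕ) (chA0_n0_0 j) (chA0_n0_1 j) (Nat.ble 8 j))

/-- the chunks of the table of the certificate 0 -/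
noncomputable def chunkA0 (j : ℕ) : ℕ := chA0_n1_0 j

noncomputable def chA2_n0_0 (j : ℕ) : ℕ := (Bool.rec (motive := fun _ => ℕ) (Bool.rec (motive := fun _ => ℕ) cA2_0 (Bool.rec (motive := fun _ => ℕ) cA2_1 cA2_2 (Nat.ble 2 j)) (Nat.ble 1 j)) (Bool.rec (motive := fun _ => ℕ) (Bool.rec (motive := fun _ => ℕ) cA2_3 cA2_4 (Nat.ble 4 j)) (Bool.rec (motive := fun _ => ℕ) cA2_5 cA2_6 (Nat.ble 6 j)) (Nat.ble 5 j)) (Nat.ble 3 j))

/-- the chunks of the table of the certificate 2 -/
noncomputable def chunkA2 (j : ℕ) : ℕ := chA2_n0_0 j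


noncomputable def entA2 (i : ℕ) : ℕ := (chunkA2 (i / 256) >>> (75 * (i % 256))) % 37778931862957161709568
def parA2 (b : ℕ) : ℕ := (qA2 >>> (19 * b)) % 524288
def entA1 (i : ℕ) : ℕ := (cA1 >>> (75 * i)) % 37778931862957161709568
def parA1 (b : ℕ) : ℕ := (qA1 >>> (19 * b)) % 524288
noncomputable def entA0 (i : ℕ) : ℕ := (chunkA0 (i / 256) >>> (75 * (i % 256))) % 37778931862957161709568
def parA0 (b : ℕ) : ℕ := (qA0 >>> (19 * b)) % 524288

/-- the words of a certificate: a special word, then the coincidences -/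
def WS (o : List ℕ) (rel : List ((List ℕ × ℕ × List ℕ × ℕ) × List ℕ)) (k : ℕ) : List ℕ :=
  Nat.rec (motive := fun _ => List ℕ) o (fun k' _ => longW (rel.getD k' c0w).1) k

theorem WS_zero (o : List ℕ) (rel : List ((List ℕ × ℕ × List ℕ × ℕ) × List ℕ)) : WS o rel 0 = o := rfl

theorem WS_succ (o : List ℕ) (rel : List ((List ℕ × ℕ × List ℕ × ℕ) × List ℕ)) (k : ℕ) :
    WS o rel (k + 1) = longW (rel.getD k c0w).1 := rfl

/-- the three certificates -/
noncomputable def certA0 : FCert := mkCert7 720 5 0 entA0 parA0 (WS [0, 0] rel0)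
def certA1 : FCert := mkCert7 72 6 5 entA1 parA1 (WS [0, 0] rel1)
noncomputable def certA2 : FCert := mkCert7 243 7 6 entA2 parA2 (WS kapW rel2)

/-- the rows of a range are checked as soon as each of them is -/
theorem rowsOK_of_forall (C : FCert) {lo len : ℕ} (h : ∀ a, lo ≤ a → a < lo + len → C.rowOK a = true) :
    C.rowsOK lo len = true := by
  rw [FCert.rowsOK, List.all_eq_true]
  intro i hi
  have hi' := List.mem_range.1 hi
  exact h _ (Nat.le_add_right _ _) (by omega)

/-- a row of a checked range -/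
theorem row_of_rows (C : FCert) {lo len : ℕ} (h : C.rowsOK lo len = true) {a : ℕ} (h1 : lo ≤ a) (h2 : a < lo + len) :
    C.rowOK a = true := by
  rw [FCert.rowsOK, List.all_eq_true] at h
  have h3 := h (a - lo) (List.mem_range.2 (by omega))
  rwa [show lo + (a - lo) = a by omega] at h3

/-- a check of a list in two parts -/
theorem all_split {α : Type*} (p : α → Bool) (n : ℕ) (l : List α) (h1 : (l.take n).all p = true)
    (h2 : (l.drop n).all p = true) : l.all p = true := by
  rw [← List.take_append_drop n l, List.all_append, h1, h2]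
  rfl

/-- the pairs of a list, each member with the later ones -/
def pairsOf {α : Type*} : List α → List (α × α)
  | [] => []
  | p :: l => l.map (fun q => (p, q)) ++ pairsOf l

theorem pairwise_of_pairsOf {α : Type*} {R : α → α → Prop} : ∀ l : List α,
    (∀ pq ∈ pairsOf l, R pq.1 pq.2) → l.Pairwise R
  | [], _ => List.Pairwise.nil
  | p :: l, h => by
    rw [List.pairwise_cons]
    constructor
    · intro q hq
      exact h (p, q) (List.mem_append_left _ (List.mem_map.2 ⟨q, hq, rfl⟩))
    · exact pairwise_of_pairsOf l (fun pq hpq => h pq (List.mem_append_right _ hpq))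

/-! ### the checks on points -/

/-- the transposition of the palindrome `q` moves the point of the palindrome `p` to the point of the palindrome `r` -/
def actOK (q p r : List ℕ × ℕ) : Bool := relOK23 (p.1 ++ palW q.1 q.2, p.2, r.1, r.2)

/-- the palindrome of the image of the point of `p` under the transposition of `q` -/
def actP (q p : List ℕ × ℕ) : List ℕ × ℕ := (p.1 ++ palW q.1 q.2, p.2)

/-- the seven transpositions commute -/
def oddFixOK : Bool := (pairsOf oddL).all fun pq => actOK pq.2 pq.1 pq.1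

/-- the mirrors of the central word -/
def kx1 : List ℕ × ℕ := kapL.getD 0 ([], 0)
def ky1 : List ℕ × ℕ := kapL.getD 1 ([], 0)
def ky3 : List ℕ × ℕ := kapL.getD 2 ([], 0)
def kx3 : List ℕ × ℕ := kapL.getD 3 ([], 0)
def kx5 : List ℕ × ℕ := kapL.getD 4 ([], 0)
def ky5 : List ℕ × ℕ := kapL.getD 5 ([], 0)
def ky6 : List ℕ × ℕ := kapL.getD 6 ([], 0)
def kx6 : List ℕ × ℕ := kapL.getD 7 ([], 0)

/-- the braid conditions of the four rotations -/
def kapBraidOK : Bool :=
  actOK kx1 ky1 (actP ky1 kx1) && actOK kx3 ky3 (actP ky3 kx3) && actOK kx5 ky5 (actP ky5 kx5) &&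
    actOK kx6 ky6 (actP ky6 kx6)

/-- the conditions for two rotations to commute: `T y3 • x1 = T x3 • y1` and `T (T x3 • y1) • (T x3 • x1) = T y3 • y1` -/
def rotCommOK (x1 y1 x3 y3 : List ℕ × ℕ) : Bool :=
  actOK y3 x1 (actP x3 y1) && actOK (actP x3 y1) (actP x3 x1) (actP y3 y1)

def kapCommOK : Bool := rotCommOK kx1 ky1 kx3 ky3 && rotCommOK kx5 ky5 kx6 ky6

/-- each of the last four mirrors fixes each of the first four -/
def kapFixOK : Bool :=
  [kx1, ky1, ky3, kx3].all fun p => [kx5, ky5, ky6, kx6].all fun q => actOK q p p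

/-- the word of the point of a palindrome, moved by the reversing element -/
def gMove (p r : List ℕ × ℕ) : Bool := ptOK (gwordL ++ palWd p.1 p.2) (palWd r.1 r.2)

/-- the reversing element maps the eight mirrors to `x6, y6, y5, x5, x3, y3, x1, z1` -/
def kapRevOK : Bool :=
  gMove kx1 kx6 && gMove ky1 ky6 && gMove ky3 ky5 && gMove kx3 kx5 && gMove kx5 kx3 && gMove ky5 ky3 &&
    gMove ky6 kx1 && gMove kx6 (actP kx1 ky1)

/-- the two generators commute, by the table: the second fixes the point of the first -/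
def cmG (n m : ℕ) : Bool := ptOK (m :: uW n) (uW n)

/-- the two generators satisfy the braid relation, by the table -/
def brG (n m : ℕ) : Bool := ptOK (n :: uW m) (m :: uW n)

/-- the two members of the family commute -/
def cmF (x y : ℕ) : Bool := cmG (famf x) (famf y)

/-- the Coxeter relations of the ten generators -/
def coxOK : Bool :=
  (List.range 10).all fun n => (List.range 10).all fun m =>
    Nat.beq n m || (bif Nat.beq (coxLabel Fi23.edges (Fi23TC.data.gen n) (Fi23TC.data.gen m)) 3 then brG n m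
      else (Nat.beq (coxLabel Fi23.edges (Fi23TC.data.gen n) (Fi23TC.data.gen m)) 2 && cmG n m))

/-- the word of the spider relator and the generators of `E7` -/
def spiderW : List ℕ := Fi23TC.extraWords.getD 0 []

/-- the Coxeter word `a b c d e f h`, in the generators -/
def coxG : List ℕ := [0, 1, 2, 3, 4, 5, 8]

end Cfsg.Agent.Lib.Helper5.Fi23Mult

end
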