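import Cfsg.Agent.Lib.Helper5.Fi23Mult.C

/-! The checks for the stem extensions of `Fi23` that the kernel evaluates by tracing rows of the coset table: the base of
the word problem, the seven commuting transpositions, the Coxeter relations of the generators, the moves that reverse
the Coxeter word of `E7`, the letters of the relators -/

set_option autoImplicit false
set_option maxRecDepth 100000

namespace Cfsg.Agent.Lib.Helper5.Fi23Mult

open Cfsg.Spor Cfsg.Agent.Lib.Helper6
open Cfsg.Agent.Lib.Helper5.SuzMult (longW c0w letOK)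
open Cfsg.Agent.Lib.Helper5.Fi22Mult (manyW)

/-- the base points of the word problem -/
def base23 : List ℕ := [1238, 1237, 743, 620, 560, 429, 1, 0]

theorem base23_eq : SimpWP.allFixed Fi23Simp.levels [] = base23 := by decide +kernel

theorem chk_oddprod : SimpWPC.fixOK Fi23TC.tab base23 ((manyW oddL).map famf) = true := by decide +kernel

theorem chk_oddfix : oddFixOK = true ∧ oddL.length = 7 := by decide +kernel

theorem chk_cox : coxOK = true := by decide +kernel

theorem chk_c0w : relF c0w = true := by decide +kernel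

theorem chk_kapW_lt : kapW.all (fun x => Nat.blt x 7) = true := by decide +kernel

theorem chk_letF : rel0.all (fun c => letOK 5 c.1) = true ∧ rel1.all (fun c => letOK 6 c.1) = true ∧
    rel2.all (fun c => letOK 7 c.1) = true := by decide +kernel

theorem chk_moves : mvsOK cmF coxL coxMoves = true ∧ mvs coxL coxMoves = coxL.reverse := by decide +kernel

/-- the word of the spider relator in the members of the family -/
def spiderF : List ℕ := [2, 1, 0, 2, 3, 4, 2, 5, 6, 2, 1, 0, 2, 3, 4, 2, 5, 6, 2, 1, 0, 2, 3, 4, 2, 5, 6, 2, 1, 0, 2, 3, 4, 2, 5, 6, 2, 1, 0, 2, 3, 4, 2, 5, 6, 2, 1, 0, 2, 3, 4, 2, 5, 6, 2, 1, 0, 2, 3, 4, 2, 5, 6, 2, 1, 0, 2, 3, 4, 2, 5, 6, 2, 1, 0, 2, 3, 4, 2, 5, 6, 2, 1, 0, 2, 3, 4, 2, 5, 6]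

theorem chk_spiderF : spiderF.map famf = spiderW ∧ spiderF.all (fun j => Nat.blt j 7) = true := by decide +kernel

theorem chk_extra : Fi23TC.extraWords = [spiderW, oddH] ∧
    Fi23TC.extraWords.all (fun w => w.all fun x => Nat.blt x 10) = true ∧
    oddH = (List.replicate 9 coxG).flatten ∧ coxL.map famf = coxG ∧ coxL.length = 7 := by decide +kernel

end Cfsg.Agent.Lib.Helper5.Fi23Mult
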