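import Cfsg.Agent.Lib.Helper5.Fi23Mult.Chk1

/-! The checks for the stem extensions of `Fi23` that the kernel evaluates by tracing rows of the coset table: the central
word of the eight mirrors (braid and commuting conditions, the reversing element, triviality of the image) -/

set_option autoImplicit false
set_option maxRecDepth 100000

namespace Cfsg.Agent.Lib.Helper5.Fi23Mult

open Cfsg.Spor Cfsg.Agent.Lib.Helper6
open Cfsg.Agent.Lib.Helper5.SuzMult (longW c0w letOK)
open Cfsg.Agent.Lib.Helper5.Fi22Mult (manyW)

theorem chk_kapBraid : kapBraidOK = true := by decide +kernel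

theorem chk_kapComm : kapCommOK = true := by decide +kernel

theorem chk_kapFix : kapFixOK = true := by decide +kernel

theorem chk_kapRev : kapRevOK = true := by decide +kernel

theorem chk_kapker : SimpWPC.fixOK Fi23TC.tab base23 (kapW.map famf) = true := by decide +kernel

theorem chk_kapL : kapL = [kx1, ky1, ky3, kx3, kx5, ky5, ky6, kx6] ∧ kapL.length = 8 := by decide +kernel

end Cfsg.Agent.Lib.Helper5.Fi23Mult
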