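import Cfsg.Agent.Lib.Helper5.Fi23Mult.C

/-! The rows of the three coset certificates for the stem extensions of `Fi23`, checked by the kernel -/

set_option autoImplicit false
set_option maxRecDepth 100000

namespace Cfsg.Agent.Lib.Helper5.Fi23Mult

open Cfsg.Spor Cfsg.Agent.Lib.Helper6
open Cfsg.Agent.Lib.Helper5.SuzMult (longW c0w letOK)
open Cfsg.Agent.Lib.Helper5.Fi22Mult (manyW)

theorem chk_certA0_0 : certA0.rowsOK 0 720 = true := by decide +kernel

theorem chk_cA1 : certA1.rowsOK 0 72 = true := by decide +kernel

theorem chk_certA2_0 : certA2.rowsOK 0 243 = true := by decide +kernel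

end Cfsg.Agent.Lib.Helper5.Fi23Mult
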