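import Cfsg.Agent.Lib.Helper6.Fi23T3
import Cfsg.Agent.Lib.Helper5.Fi23Mult.Base
import Cfsg.Agent.Lib.Helper5.J3MultA

/-!
# The subgroup of the presented `Fi23` generated by `b, c, d, e, f, h, i` has `12597120` elements

helper6's chain of sub-presentations `Q7 → Q8 → Q9 → Fi23` with the indices `728`, `14080` and `31671`, the upper bound
`|Q7| ≤ 12597120` and the order of `Fi23` make every map of the chain injective.  Hence a subgroup of an extension that
has at most `12597120` elements and maps onto the subgroup generated by `b, c, d, e, f, h, i` maps injectively.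
-/

set_option autoImplicit false

namespace Cfsg.Agent.Lib.Helper5.Fi23Mult

open Cfsg Cfsg.Spor Cfsg.Agent.Lib.Helper6 Cfsg.Agent.Lib.Helper6.Simp Cfsg.Agent.Lib.Helper6.Fi23Sub
open Cfsg.Agent.Lib.Helper5.J3Mult (seg mem_seg)

/-- a homomorphism from a finite group whose image is not smaller is injective -/
theorem injective_of_card_le_range {A B : Type*} [Group A] [Group B] [Finite A] (f : A →* B)
    (h : Nat.card A ≤ Nat.card f.range) : Function.Injective f := by
  have hb : Function.Bijective f.rangeRestrict :=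
    f.rangeRestrict_surjective.bijective_of_nat_card_le h
  intro x y hxy
  apply hb.1
  exact Subtype.ext hxy

/-- an element of a subgroup that is not larger than its image, in the kernel, is trivial -/
theorem eq_one_of_card_le {E G : Type*} [Group E] [Group G] [Finite E] (K : Subgroup E) (σ : E →* G)
    (h : Nat.card K ≤ Nat.card (K.map σ)) (y : E) (hy : y ∈ K) (hy1 : σ y = 1) : y = 1 := by
  have hs : Function.Surjective (σ.subgroupMap K) := σ.subgroupMap_surjective K
  have hb : Function.Bijective (σ.subgroupMap K) := hs.bijective_of_nat_card_le h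
  have h1 : σ.subgroupMap K ⟨y, hy⟩ = σ.subgroupMap K 1 := by
    apply Subtype.ext
    rw [map_one]
    exact hy1
  exact congrArg Subtype.val (hb.1 h1)

section step

variable {α β : Type} [DecidableEq α] [DecidableEq β]
  {edges : List (α × ℕ × α)} {extra : List (FreeGroup α)}
  {edges' : List (β × ℕ × β)} {extra' : List (FreeGroup β)}
  (P : SubPres edges extra edges' extra')

/-- **a step down the chain**: if the order of the group is the product of the index and of the upper bound for the
group of the sub-presentation, the latter has that order and maps injectively -/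
theorem SubPres_card_inj (S : Set (FreeGroup α)) (hS : S = Set.range fun b => FreeGroup.of (P.ι b)) {n m : ℕ}
    (hidx : ((Subgroup.closure S).map (PresentedGroup.mk (coxRelators edges ∪ {r | r ∈ extra}))).index = n)
    (hn : 0 < n) (hG : Nat.card (CoxPresented α edges extra) = n * m)
    (hfin : Finite (CoxPresented β edges' extra')) (hm : Nat.card (CoxPresented β edges' extra') ≤ m) :
    Nat.card (CoxPresented β edges' extra') = m ∧ Function.Injective P.hom := by
  rw [hS, ← P.range_hom] at hidx
  have h1 := Subgroup.card_mul_index P.hom.range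
  rw [hidx, hG, mul_comm] at h1
  have hr : Nat.card P.hom.range = m := Nat.eq_of_mul_eq_mul_left hn h1
  have hinj : Function.Injective P.hom := injective_of_card_le_range P.hom (by rw [hr]; exact hm)
  refine ⟨le_antisymm hm ?_, hinj⟩
  rw [← hr]
  exact Nat.card_le_card_of_surjective _ P.hom.rangeRestrict_surjective

end step

theorem ubQ7 : Finite Q7 ∧ Nat.card Q7 ≤ 12597120 := by
  have h6 := finite_card_of_index_empty Fi23Q4TC.main (by norm_num)
  have h5 := subQ4.finite_card_le Fi23Q5TC.S rangeQ4.symm Fi23Q5TC.main (by norm_num) h6.1 (le_of_eq h6.2)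
  have h4 := subQ5.finite_card_le Fi23Q6TC.S rangeQ5.symm Fi23Q6TC.main (by norm_num) h5.1 h5.2
  have h3 := subQ6.finite_card_le Fi23Q7TC.S rangeQ6.symm Fi23Q7TC.main (by norm_num) h4.1 h4.2
  exact ⟨h3.1, h3.2.trans (by norm_num)⟩

theorem ubQ8 : Finite Q8 ∧ Nat.card Q8 ≤ 9170703360 := by
  have h2 := subQ7.finite_card_le Fi23Q8TC.S rangeQ7.symm Fi23Q8TC.main (by norm_num) ubQ7.1 ubQ7.2
  exact ⟨h2.1, h2.2.trans (by norm_num)⟩

theorem inj_Q9 : Function.Injective subQ9.hom := by
  have : Finite Q9 := Fi23UB.ubQ9.1
  apply injective_of_card_le_range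
  have h : Nat.card ↥subQ9.hom.range = 129123503308800 := by
    rw [Fi23DC.range_eq]
    exact Fi23T3.card_H
  exact le_of_eq (Fi23T3.card_Q9.trans h.symm)

theorem card_inj_Q8 : Nat.card Q8 = 9170703360 ∧ Function.Injective subQ8.hom := by
  have : Finite Q9 := Fi23UB.ubQ9.1
  exact SubPres_card_inj subQ8 Fi23Q9TC.S rangeQ8.symm Fi23Q9TC.main (by norm_num)
    (Fi23T3.card_Q9.trans (by norm_num)) ubQ8.1 ubQ8.2

theorem card_inj_Q7 : Nat.card Q7 = 12597120 ∧ Function.Injective subQ7.hom := by
  have : Finite Q8 := ubQ8.1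
  exact SubPres_card_inj subQ7 Fi23Q8TC.S rangeQ7.symm Fi23Q8TC.main (by norm_num)
    (card_inj_Q8.1.trans (by norm_num)) ubQ7.1 ubQ7.2

/-- the composite `Q7 → Fi23` -/
noncomputable def c7 : Q7 →* Fi23 := subQ9.hom.comp (subQ8.hom.comp subQ7.hom)

theorem c7_inj : Function.Injective c7 := inj_Q9.comp (card_inj_Q8.2.comp card_inj_Q7.2)

theorem c7_of (y : Q7.Gen) : c7 (PresentedGroup.of y) =
    (PresentedGroup.of (subQ9.ι (subQ8.ι (subQ7.ι y))) : Fi23) := by
  unfold c7
  rw [MonoidHom.comp_apply, MonoidHom.comp_apply, SubPres.hom_of, SubPres.hom_of, SubPres.hom_of]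

/-- **the image of a subgroup generated by lifts of `b, c, d, e, f, h, i` has at least `12597120` elements** -/
theorem card_map_seg7_ge {E : Type*} [Group E] (σ : E →* Fi23) (γ : ℕ → E)
    (h : ∀ i, i < 7 → σ (γ i) = genE (famf i)) : 12597120 ≤ Nat.card ↥((seg γ 7).map σ) := by
  have : Finite Fi23 := Fi23UB.ub.1
  have key : ∀ i, i < 7 → genE (famf i) ∈ (seg γ 7).map σ := fun i hi => ⟨γ i, mem_seg γ hi, h i hi⟩
  have hle : c7.range ≤ (seg γ 7).map σ := by
    rw [MonoidHom.range_eq_map, ← PresentedGroup.closure_range_of, MonoidHom.map_closure, Subgroup.closure_le]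
    rintro _ ⟨_, ⟨y, rfl⟩, rfl⟩
    rw [SetLike.mem_coe, c7_of]
    cases y
    · exact key 0 (by norm_num)
    · exact key 1 (by norm_num)
    · exact key 2 (by norm_num)
    · exact key 3 (by norm_num)
    · exact key 4 (by norm_num)
    · exact key 5 (by norm_num)
    · exact key 6 (by norm_num)
  have hc : Nat.card c7.range = 12597120 := by
    rw [← card_inj_Q7.1]
    exact (Nat.card_congr (MonoidHom.ofInjective c7_inj).toEquiv).symm
  rw [← hc]
  exact Subgroup.card_le_of_le hle

end Cfsg.Agent.Lib.Helper5.Fi23Mult
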