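import Cfsg.Agent.Lib.Helper5.Fi23Mult.R
import Cfsg.Agent.Lib.Helper5.Fi23Mult.Low

/-!
# Every finite stem extension of `Fi23` is an isomorphism

`σ : E →* Fi23` is a central extension with kernel in the commutator subgroup.  The conjugates of the transposition `z`
(indexed by the 31671 cosets of its centraliser `H`, which is perfect) have equivariant lifts that are involutions
(`Fi22Mult.exists_lifts_odd_sub`, normalised by seven commuting transpositions with trivial product).  The lifts of the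
ten generators satisfy the Coxeter relations.  The ninth power `ε` of the lifted Coxeter word of `E7` is a central
involution of the kernel (the reversed word is reached by rotations and exchanges), and multiplying the lifts by `ε`
makes the relator `(a b c d e f h)^9` hold.  The central word `κ` of eight mirrors of `3^5 : W(E6)` is trivial
(`kappa_eq_one`: an element of `Fi23` outside of `H` reverses it).  Three coset certificates bound the order of the
subgroup generated by the lifts of `b, c, d, e, f, h, i` by `720 · 72 · 243`, which is the order of its image, so the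
lifted spider relator, an element of that subgroup in the kernel, is trivial.  Hence the generators of the
presentation lift to a homomorphic section, and the kernel is trivial.
-/

set_option autoImplicit false
set_option maxRecDepth 100000

namespace Cfsg.Agent.Lib.Helper5.Fi23Mult

open Cfsg Cfsg.Spor Cfsg.Agent.Lib.Helper6 Cfsg.Agent.Lib.Helper6.TC Cfsg.Agent.Lib.Helper6.Simp
open Cfsg.Agent.Lib.Helper8.CanonLift
open Cfsg.Agent.Lib.Helper6.Fi23T3 (z z_mul_self H)
open Cfsg.Agent.Lib.Helper5.J3Mult (FCert palW Cz seg seg_zero card_seg_le mem_seg)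
open Cfsg.Agent.Lib.Helper5.SuzMult (Tq0 Tq0_mk palP0 prod_palW0 prod_coincide0 longW c0w letOK lt_getD)
open Cfsg.Agent.Lib.Helper5.Fi22Mult (exists_lifts_odd_sub manyW prod_manyW Tq0_palP0 Tq0_smul_palP0
  prod_map_mul_central)

/-- the point of a palindrome -/
noncomputable def ptP (p : List ℕ × ℕ) : Fi23 ⧸ H := palP0 z H hC0 xF p.1 p.2

theorem ptP_eq_of_relF {c : (List ℕ × ℕ × List ℕ × ℕ) × List ℕ} (h : relF c = true) :
    ptP (c.1.1, c.1.2.1) = ptP (c.1.2.2.1, c.1.2.2.2) := point_eq_of_relOK23 h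

/-- the transposition of a palindrome moves the point of a palindrome -/
theorem act_of_actOK {q p r : List ℕ × ℕ} (h : actOK q p r = true) :
    Tq0 z H hC0 (ptP q) • ptP p = ptP r := by
  unfold ptP
  rw [Tq0_smul_palP0 z_mul_self]
  exact point_eq_of_relOK23 h

theorem act_actP (q p : List ℕ × ℕ) : Tq0 z H hC0 (ptP q) • ptP p = ptP (actP q p) := by
  unfold ptP actP
  rw [Tq0_smul_palP0 z_mul_self]

/-- the transposition of the point of a palindrome is the element of a word -/
theorem Tq0_ptP (p : List ℕ × ℕ) : Tq0 z H hC0 (ptP p) = gw ((palW p.1 p.2).map famf) := by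
  unfold ptP
  rw [Tq0_palP0 z_mul_self, prod_tF]

theorem prod_Tq0_many (l : List (List ℕ × ℕ)) :
    ((l.map ptP).map (Tq0 z H hC0)).prod = gw ((manyW l).map famf) := by
  induction l with
  | nil => simp [manyW, gw_nil]
  | cons p l ih =>
    unfold manyW at ih ⊢
    rw [List.map_cons, List.map_cons, List.prod_cons, ih, List.flatMap_cons, List.map_append, gw_append, Tq0_ptP]

/-- **the word problem**: a word that fixes the points of the base is trivial -/
theorem gw_eq_one {w : List ℕ} (h : SimpWPC.fixOK Fi23TC.tab base23 w = true) : gw w = 1 := by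
  have : Finite Fi23 := Fi23UB.ub.1
  refine SimpWPC.wordG_eq_one_of_fixOK Fi23TC.data Fi23Simple.main.2 Fi23T3.ρ_inj Fi23Simp.levels
    Fi23Simp.chain_ok Fi23Simp.chain_prod (by norm_num) w ?_
  rw [base23_eq]
  exact h

theorem odd_prod : ((oddL.map ptP).map (Tq0 z H hC0)).prod = 1 := by
  rw [prod_Tq0_many]
  exact gw_eq_one chk_oddprod

theorem odd_fix : (oddL.map ptP).Pairwise fun p q => Tq0 z H hC0 q • p = p := by
  rw [List.pairwise_map]
  apply pairwise_of_pairsOf
  intro pq hpq
  have h := List.all_eq_true.1 chk_oddfix.1 pq hpq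
  exact act_of_actOK h

/-! ### the lifts -/

section lifts

variable {E : Type*} [Group E] {σ : E →* Fi23} (Λ : Lifts σ (Tq0 z H hC0))

/-- the lift of the generator with the number `n` -/
noncomputable def gE (n : ℕ) : E := Λ.L (pt (uW n))

/-- the lifts of the family -/
noncomputable def γL (i : ℕ) : E := Λ.L (xF i)

theorem γL_eq (i : ℕ) : γL Λ i = gE Λ (famf i) := rfl

theorem gE_sq (n : ℕ) : gE Λ n * gE Λ n = 1 := Λ.sq _

theorem γL_sq (i : ℕ) : γL Λ i * γL Λ i = 1 := Λ.sq _

theorem map_gE {n : ℕ} (hn : n < 10) : σ (gE Λ n) = genE n := by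
  unfold gE
  rw [Λ.map, pt, Tq0_mk]
  exact conj_gen n hn

theorem map_prod_gE {w : List ℕ} (hw : ∀ x ∈ w, x < 10) : σ ((w.map (gE Λ)).prod) = gw w := by
  rw [map_list_prod, List.map_map, gw_eq_prod]
  congr 1
  apply List.map_congr_left
  intro x hx
  exact map_gE Λ (hw x hx)

/-- the transposition of the point of a generator moves points of words -/
theorem T_smul_pt {n : ℕ} (hn : n < 10) (w : List ℕ) : Tq0 z H hC0 (pt (uW n)) • pt w = pt (n :: w) := by
  rw [pt, Tq0_mk, conj_gen n hn, ← gw_single, smul_pt]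
  rfl

theorem gE_comm {n m : ℕ} (_hn : n < 10) (hm : m < 10) (h : cmG n m = true) :
    gE Λ n * gE Λ m = gE Λ m * gE Λ n := by
  apply Λ.comm_of_fix
  rw [T_smul_pt hm]
  exact pt_eq_of_ptOK h

theorem gE_braid {n m : ℕ} (hn : n < 10) (hm : m < 10) (h : brG n m = true) :
    (gE Λ n * gE Λ m) ^ 3 = 1 := by
  apply rot_pow_three Λ
  rw [T_smul_pt hn, T_smul_pt hm]
  exact pt_eq_of_ptOK h

/-- **the Coxeter relations of the lifts of the generators** -/
theorem gE_cox {n m : ℕ} (hn : n < 10) (hm : m < 10) :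
    (gE Λ n * gE Λ m) ^ coxLabel Fi23.edges (Fi23TC.data.gen n) (Fi23TC.data.gen m) = 1 := by
  by_cases hnm : n = m
  · subst hnm
    have : coxLabel Fi23.edges (Fi23TC.data.gen n) (Fi23TC.data.gen n) = 1 := by
      unfold coxLabel
      rw [if_pos rfl]
    rw [this, pow_one, gE_sq]
  · have h := List.all_eq_true.1 (List.all_eq_true.1 chk_cox n (List.mem_range.2 hn)) m (List.mem_range.2 hm)
    rw [Bool.or_eq_true] at h
    rcases h with h | h
    · exact absurd (Nat.eq_of_beq_eq_true h) hnm
    · by_cases h3 : coxLabel Fi23.edges (Fi23TC.data.gen n) (Fi23TC.data.gen m) = 3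
      · rw [h3] at h ⊢
        rw [Nat.beq_refl, cond_true] at h
        exact gE_braid Λ hn hm h
      · have hb : Nat.beq (coxLabel Fi23.edges (Fi23TC.data.gen n) (Fi23TC.data.gen m)) 3 = false := by
          rw [Bool.eq_false_iff]
          intro hh
          exact h3 (Nat.eq_of_beq_eq_true hh)
        rw [hb, cond_false, Bool.and_eq_true] at h
        rw [Nat.eq_of_beq_eq_true h.1, pow_two]
        have hc := gE_comm Λ hn hm h.2
        calc gE Λ n * gE Λ m * (gE Λ n * gE Λ m) = gE Λ n * (gE Λ m * gE Λ n) * gE Λ m := by group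
          _ = gE Λ n * (gE Λ n * gE Λ m) * gE Λ m := by rw [hc]
          _ = (gE Λ n * gE Λ n) * (gE Λ m * gE Λ m) := by group
          _ = 1 := by rw [gE_sq, gE_sq, one_mul]

theorem γL_comm {x y : ℕ} (h : cmF x y = true) : γL Λ x * γL Λ y = γL Λ y * γL Λ x :=
  gE_comm Λ (famf_lt x) (famf_lt y) h

/-! ### the relators of the certificates -/

theorem word_of_relF {c : (List ℕ × ℕ × List ℕ × ℕ) × List ℕ} (h : relF c = true) :
    ((longW c.1).map (γL Λ)).prod = 1 := by
  unfold longW
  exact prod_coincide0 Λ xF (ptP_eq_of_relF h)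

theorem word_getD {l : List ((List ℕ × ℕ × List ℕ × ℕ) × List ℕ)} (hl : l.all relF = true) (k : ℕ) :
    ((longW (l.getD k c0w).1).map (γL Λ)).prod = 1 := by
  apply word_of_relF
  by_cases hk : k < l.length
  · rw [List.getD_eq_getElem _ _ hk]
    exact List.all_eq_true.1 hl _ (List.getElem_mem hk)
  · rw [List.getD_eq_default _ _ (by omega)]
    exact chk_c0w

theorem sq_word : (([0, 0] : List ℕ).map (γL Λ)).prod = 1 := by
  simp only [List.map_cons, List.map_nil, List.prod_cons, List.prod_nil, mul_one]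
  exact γL_sq Λ 0

theorem hW_of {o : List ℕ} (ho : (o.map (γL Λ)).prod = 1)
    {l : List ((List ℕ × ℕ × List ℕ × ℕ) × List ℕ)} (hl : l.all relF = true) :
    ∀ k, ((WS o l k).map (γL Λ)).prod = 1
  | 0 => ho
  | (k + 1) => word_getD Λ hl k

/-! ### the central word -/

/-- **the central word of the eight mirrors is trivial** -/
theorem kappa_word (hcen : σ.ker ≤ Subgroup.center E) (hsurj : Function.Surjective σ) :
    (kapW.map (γL Λ)).prod = 1 := by
  have e1 : (kapW.map (γL Λ)).prod = ((kapL.map ptP).map Λ.L).prod := prod_manyW Λ xF kapL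
  have e2 : kapL = [kx1, ky1, ky3, kx3, kx5, ky5, ky6, kx6] := chk_kapL.1
  rw [e1, e2]
  simp only [List.map_cons, List.map_nil, List.prod_cons, List.prod_nil, mul_one]
  -- the hypotheses
  have hb := chk_kapBraid
  unfold kapBraidOK at hb
  simp only [Bool.and_eq_true] at hb
  obtain ⟨⟨⟨b1, b3⟩, b5⟩, b6⟩ := hb
  have hc := chk_kapComm
  unfold kapCommOK rotCommOK at hc
  simp only [Bool.and_eq_true] at hc
  obtain ⟨⟨c1, c2⟩, ⟨c3, c4⟩⟩ := hc
  have hr := chk_kapRev
  unfold kapRevOK at hr
  simp only [Bool.and_eq_true] at hr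
  obtain ⟨⟨⟨⟨⟨⟨⟨r1, r2⟩, r3⟩, r4⟩, r5⟩, r6⟩, r7⟩, r8⟩ := hr
  have gm : ∀ {p r : List ℕ × ℕ}, gMove p r = true → gw gwordL • ptP p = ptP r := by
    intro p r h
    unfold ptP
    rw [palP0_eq_pt, palP0_eq_pt, smul_pt]
    exact pt_eq_of_ptOK h
  have key := kappa_eq_one Λ hcen hsurj
    (x1 := ptP kx1) (y1 := ptP ky1) (y3 := ptP ky3) (x3 := ptP kx3) (x5 := ptP kx5) (y5 := ptP ky5)
    (y6 := ptP ky6) (x6 := ptP kx6) (z1 := ptP (actP kx1 ky1))
    (by rw [act_of_actOK b1, act_actP])
    (by rw [act_of_actOK b3, act_actP])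
    (by rw [act_of_actOK b5, act_actP])
    (by rw [act_of_actOK b6, act_actP])
    (rot_comm Λ (act_actP kx3 kx1) (act_actP kx3 ky1) (act_of_actOK c1) (act_actP ky3 ky1) (act_of_actOK c2))
    (rot_comm Λ (act_actP kx6 kx5) (act_actP kx6 ky5) (act_of_actOK c3) (act_actP ky6 ky5) (act_of_actOK c4))
    (by
      intro p hp q hq
      have hf := chk_kapFix
      unfold kapFixOK at hf
      simp only [List.mem_cons, List.not_mem_nil, or_false] at hp hq
      have hall : ∀ p' ∈ [kx1, ky1, ky3, kx3], ∀ q' ∈ [kx5, ky5, ky6, kx6], actOK q' p' p' = true :=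
        fun p' hp' q' hq' => List.all_eq_true.1 (List.all_eq_true.1 hf p' hp') q' hq'
      rcases hp with rfl | rfl | rfl | rfl <;> rcases hq with rfl | rfl | rfl | rfl <;>
        exact act_of_actOK (hall _ (by simp) _ (by simp)))
    (by
      have h := gw_eq_one chk_kapker
      have e3 : gw (kapW.map famf) = ((kapL.map ptP).map (Tq0 z H hC0)).prod := (prod_Tq0_many kapL).symm
      rw [e3, e2] at h
      simp only [List.map_cons, List.map_nil, List.prod_cons, List.prod_nil, mul_one] at h
      rw [← h]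
      group)
    (act_actP kx1 ky1)
    (gw gwordL) (gm r1) (gm r2) (gm r3) (gm r4) (gm r5) (gm r6) (gm r7) (gm r8)
  rw [← key]
  group

end lifts

/-! ### the bound for the subgroup generated by the lifts of `b, c, d, e, f, h, i` -/

theorem hL_of {g : ℕ} (hg : 0 < g) {o : List ℕ} (ho : ∀ x ∈ o, x < g)
    {l : List ((List ℕ × ℕ × List ℕ × ℕ) × List ℕ)}
    (hl : l.all (fun c => letOK g c.1) = true) : ∀ k, ∀ x ∈ WS o l k, x < g
  | 0 => ho
  | (k + 1) => lt_getD hg hl k

theorem sq_lt {g : ℕ} (hg : 0 < g) : ∀ x ∈ ([0, 0] : List ℕ), x < g := by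
  intro x hx
  simp only [List.mem_cons, List.not_mem_nil, or_false, or_self] at hx
  omega

theorem kapW_lt : ∀ x ∈ kapW, x < 7 := by
  intro x hx
  have := List.all_eq_true.1 chk_kapW_lt x hx
  rwa [Nat.blt_eq] at this

theorem hallA0 : ∀ a, a < certA0.n → ∀ x, x < certA0.g → certA0.slotOK a x = true := by
  intro a ha x hx
  have ha' : a < 720 := ha
  exact certA0.slot_of_rows chk_certA0_0 (Nat.zero_le _) (by omega) hx

theorem hallA1 : ∀ a, a < certA1.n → ∀ x, x < certA1.g → certA1.slotOK a x = true := by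
  intro a ha x hx
  have ha' : a < 72 := ha
  exact certA1.slot_of_rows chk_cA1 (Nat.zero_le _) (by omega) hx

theorem hallA2 : ∀ a, a < certA2.n → ∀ x, x < certA2.g → certA2.slotOK a x = true := by
  intro a ha x hx
  have ha' : a < 243 := ha
  exact certA2.slot_of_rows chk_certA2_0 (Nat.zero_le _) (by omega) hx

section main

variable {E : Type} [Group E] [Finite E] (σ : E →* Fi23)

/-- **the subgroup generated by the lifts of `b, c, d, e, f, h, i` has at most `12597120` elements** -/
theorem card_seg7_le (Λ : Lifts σ (Tq0 z H hC0)) (hcen : σ.ker ≤ Subgroup.center E)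
    (hsurj : Function.Surjective σ) : Nat.card ↥(seg (γL Λ) 7) ≤ 12597120 := by
  set γ := γL Λ with hγ
  have hinv : ∀ x, γ x * γ x = 1 := γL_sq Λ
  have hsqW : (([0, 0] : List ℕ).map γ).prod = 1 := sq_word Λ
  have hkap : (kapW.map γ).prod = 1 := kappa_word Λ hcen hsurj
  have hW0 : ∀ k, ((certA0.W k).map γ).prod = 1 := hW_of Λ hsqW chk_rel0
  have hW1 : ∀ k, ((certA1.W k).map γ).prod = 1 := hW_of Λ hsqW chk_rel1
  have hW2 : ∀ k, ((certA2.W k).map γ).prod = 1 := hW_of Λ hkap chk_rel2
  have hL0 : ∀ k, ∀ x ∈ certA0.W k, x < certA0.g := hL_of (g := 5) (by norm_num) (sq_lt (by norm_num)) chk_letF.1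
  have hL1 : ∀ k, ∀ x ∈ certA1.W k, x < certA1.g := hL_of (g := 6) (by norm_num) (sq_lt (by norm_num)) chk_letF.2.1
  have hL2 : ∀ k, ∀ x ∈ certA2.W k, x < certA2.g := hL_of (g := 7) (by norm_num) kapW_lt chk_letF.2.2
  have hfin0 : Finite ↥(seg γ certA0.nsub) := by
    show Finite ↥(seg γ 0)
    rw [seg_zero]
    infer_instance
  obtain ⟨hfin1, hc1⟩ := card_seg_le γ certA0 hinv hW0 hL0 (Nat.zero_le _) (show 0 < 720 by norm_num) hallA0 hfin0
  have hc1' : Nat.card ↥(seg γ 5) ≤ 720 := by
    have h0 : Nat.card ↥(seg γ certA0.nsub) = 1 := by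
      show Nat.card ↥(seg γ 0) = 1
      rw [seg_zero]
      exact Subgroup.card_bot
    rw [h0] at hc1
    exact hc1
  obtain ⟨hfin2, hc2⟩ := card_seg_le γ certA1 hinv hW1 hL1 (show 5 ≤ 6 by norm_num) (show 0 < 72 by norm_num) hallA1 hfin1
  have hc2' : Nat.card ↥(seg γ 6) ≤ 72 * 720 := le_trans hc2 (Nat.mul_le_mul_left _ hc1')
  obtain ⟨_, hc3⟩ := card_seg_le γ certA2 hinv hW2 hL2 (show 6 ≤ 7 by norm_num) (show 0 < 243 by norm_num) hallA2 hfin2
  have hc3' : Nat.card ↥(seg γ 7) ≤ 243 * Nat.card ↥(seg γ 6) := hc3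
  exact le_trans hc3' (le_trans (Nat.mul_le_mul_left _ hc2') (by norm_num))

/-- **every finite stem extension of `Fi23` is an isomorphism** -/
theorem ker_eq_bot (hsurj : Function.Surjective σ) (hcen : σ.ker ≤ Subgroup.center E)
    (hder : σ.ker ≤ commutator E) : σ.ker = ⊥ := by
  obtain ⟨Λ₀, -⟩ := exists_lifts_odd_sub z H hC0 hsurj hcen z_mul_self perfect_H (oddL.map ptP) 3
    (by rw [List.length_map, chk_oddfix.2]) odd_prod odd_fix
  -- the central involution
  obtain ⟨c₀, hc₀⟩ : ∃ c : E, c = (coxL.map (γL Λ₀)).prod := ⟨_, rfl⟩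
  obtain ⟨ε, hε⟩ : ∃ e : E, e = c₀ ^ 9 := ⟨_, rfl⟩
  have hεk : σ ε = 1 := by
    have e1 : coxL.map (γL Λ₀) = coxG.map (gE Λ₀) := by
      have : coxL.map famf = coxG := chk_extra.2.2.2.1
      rw [← this, List.map_map]
      rfl
    rw [hε, hc₀, map_pow, e1, map_prod_gE Λ₀ (by decide)]
    have e2 : gw coxG ^ 9 = gw oddH := by
      have : oddH = (List.replicate 9 coxG).flatten := chk_extra.2.2.1
      rw [this, gw_eq_prod, gw_eq_prod, List.map_flatten, List.prod_flatten, List.map_replicate, List.map_replicate,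
        List.prod_replicate]
    rw [e2]
    exact extra_words oddH oddH_mem
  have hεc : ∀ y : E, ε * y = y * ε := comm_of_ker σ hcen hεk
  have hε2 : ε * ε = 1 := by
    have h := central_pow_sq (γL Λ₀) (γL_sq Λ₀) cmF (fun x y h => γL_comm Λ₀ h) coxL coxMoves chk_moves.1
      chk_moves.2 9 (by rw [← hc₀, ← hε]; exact hεc)
    rw [← hc₀, ← hε] at h
    exact h
  -- the normalised lifts
  obtain ⟨Λ, hΛ⟩ : ∃ Λ' : Lifts σ (Tq0 z H hC0), Λ' = mulCentral Λ₀ ε hεk hεc hε2 := ⟨_, rfl⟩
  have hγ : ∀ i, γL Λ i = γL Λ₀ i * ε := by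
    intro i
    rw [hΛ]
    rfl
  -- the relator of `E7`
  have hodd : ((coxL.map (γL Λ)).prod) ^ 9 = 1 := by
    have e1 : (coxL.map (γL Λ)).prod = c₀ * ε ^ 7 := by
      have h0 : coxL.map (γL Λ) = coxL.map fun x => γL Λ₀ x * ε := List.map_congr_left (fun i _ => hγ i)
      have hl : coxL.length = 7 := chk_extra.2.2.2.2
      rw [h0, prod_map_mul_central ε hεc (γL Λ₀) coxL, hl, ← hc₀]
    have hcomm : Commute c₀ (ε ^ 7) := (show Commute (ε ^ 7) c₀ from (Commute.pow_left (hεc c₀) 7)).symm
    have h64 : ε ^ 64 = 1 := by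
      have h : ε ^ 64 = (ε * ε) ^ 32 := by rw [← pow_two, ← pow_mul]
      rw [h, hε2, one_pow]
    calc ((coxL.map (γL Λ)).prod) ^ 9 = (c₀ * ε ^ 7) ^ 9 := by rw [e1]
      _ = c₀ ^ 9 * (ε ^ 7) ^ 9 := hcomm.mul_pow 9
      _ = ε * ε ^ 63 := by rw [← hε, ← pow_mul]
      _ = ε ^ 64 := (pow_succ' ε 63).symm
      _ = 1 := h64
  -- the subgroup of the lifts of `b, c, d, e, f, h, i` maps injectively
  have hcard := card_seg7_le σ Λ hcen hsurj
  have hlow := card_map_seg7_ge σ (γL Λ) (fun i _ => by rw [γL_eq, map_gE Λ (famf_lt i)])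
  have hinj : ∀ y ∈ seg (γL Λ) 7, σ y = 1 → y = 1 := by
    intro y hy hy1
    exact eq_one_of_card_le (seg (γL Λ) 7) σ (le_trans hcard hlow) y hy hy1
  -- the spider relator
  have hlt10 : ∀ w' ∈ Fi23TC.extraWords, ∀ x' ∈ w', x' < 10 := by
    intro w' hw' x' hx'
    have := List.all_eq_true.1 (List.all_eq_true.1 chk_extra.2.1 w' hw') x' hx'
    rwa [Nat.blt_eq] at this
  have hspm : spiderW ∈ Fi23TC.extraWords := by
    rw [chk_extra.1]
    exact List.mem_cons_self
  have hsp : (spiderW.map (gE Λ)).prod = 1 := by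
    have e1 : spiderW.map (gE Λ) = spiderF.map (γL Λ) := by
      have : spiderF.map famf = spiderW := chk_spiderF.1
      rw [← this, List.map_map]
      rfl
    rw [e1]
    apply hinj
    · apply Subgroup.list_prod_mem
      intro y hy
      obtain ⟨i, hi, rfl⟩ := List.mem_map.1 hy
      have hi7 : i < 7 := by
        have := List.all_eq_true.1 chk_spiderF.2 i hi
        rwa [Nat.blt_eq] at this
      exact mem_seg (γL Λ) hi7
    · rw [← e1, map_prod_gE Λ (hlt10 spiderW hspm)]
      exact extra_words spiderW hspm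
  have hodd' : (oddH.map (gE Λ)).prod = 1 := by
    have e1 : coxL.map (γL Λ) = coxG.map (gE Λ) := by
      have : coxL.map famf = coxG := chk_extra.2.2.2.1
      rw [← this, List.map_map]
      rfl
    have : oddH = (List.replicate 9 coxG).flatten := chk_extra.2.2.1
    rw [this, List.map_flatten, List.prod_flatten, List.map_replicate, List.map_replicate, List.prod_replicate,
      ← e1]
    exact hodd
  -- the section
  let fE : Fi23.Gen → E := fun y => gE Λ (Fi23TC.data.code y)
  have fE_gen : ∀ x, x < 10 → fE (Fi23TC.data.gen x) = gE Λ x := by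
    intro x hx
    show gE Λ (Fi23TC.data.code (Fi23TC.data.gen x)) = gE Λ x
    rw [Fi23TC.data.hgen x hx]
  have fE_sq : ∀ y, fE y * fE y = 1 := fun y => gE_sq Λ _
  have hrel : ∀ r ∈ coxRelators Fi23.edges ∪ {r | r ∈ Fi23.extra}, FreeGroup.lift fE r = 1 := by
    intro r hr
    rcases hr with ⟨x, _, y, _, rfl⟩ | hr
    · rw [map_pow, map_mul, FreeGroup.lift_apply_of, FreeGroup.lift_apply_of]
      have hx := Fi23TC.data.hcode x
      have hy := Fi23TC.data.hcode y
      have h := gE_cox Λ hx.1 hy.1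
      rw [hx.2, hy.2] at h
      exact h
    · have h := (Fi23TC.data.hextra fE fE_sq).2 (by
        intro w hw
        have e : w.map (fun x => fE (Fi23TC.data.gen x)) = w.map (gE Λ) := by
          apply List.map_congr_left
          intro x hx
          apply fE_gen
          exact hlt10 w hw x hx
        rw [e]
        have hw' : w = spiderW ∨ w = oddH := by
          have hw2 : w ∈ Fi23TC.extraWords := hw
          rw [chk_extra.1] at hw2
          simpa using hw2
        rcases hw' with rfl | rfl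
        · exact hsp
        · exact hodd')
      exact h r hr
  let φ : Fi23 →* E := PresentedGroup.toGroup hrel
  have hφ : ∀ g : Fi23, σ (φ g) = g := by
    intro g
    have : (σ.comp φ) = MonoidHom.id Fi23 := by
      apply PresentedGroup.ext
      intro y
      show σ (φ (PresentedGroup.of y)) = PresentedGroup.of y
      have h1 : φ (PresentedGroup.of y) = fE y := PresentedGroup.toGroup.of _
      rw [h1]
      have hy := Fi23TC.data.hcode y
      show σ (gE Λ (Fi23TC.data.code y)) = _
      rw [map_gE Λ hy.1]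
      unfold genE
      rw [hy.2]
    exact congrArg (fun f => f g) this
  exact ker_eq_bot_of_section σ hcen hder φ hφ

end main

end Cfsg.Agent.Lib.Helper5.Fi23Mult
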