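import Cfsg.Agent.Lib.Helper5.Fi23Mult.D
import Cfsg.Agent.H1.StemMeta

/-!
# The Schur multiplier of the Fischer group `Fi23` is trivial

Every finite stem extension of the presented group `Fi23` has trivial kernel (`ker_eq_bot`: the generators of the
presentation lift to a homomorphic section).
-/

set_option autoImplicit false

namespace Cfsg.Agent.Lib.Helper5.Fi23Mult

open Cfsg Cfsg.Spor

/-- **the Schur multiplier of `Fi23` is trivial** -/
theorem multiplier_Fi23 : HasCyclicSchurMultiplier Fi23 1 := by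
  have : Finite Fi23 := Cfsg.Agent.Lib.Helper6.Fi23UB.ub.1
  apply Cfsg.Agent.H1.hasCyclicSchurMultiplier_one_of_ker_eq_bot
  intro Γ _ _ σ hσ
  exact ker_eq_bot σ hσ.1 hσ.2.1 hσ.2.2

end Cfsg.Agent.Lib.Helper5.Fi23Mult
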