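import Cfsg.Agent.Lib.Helper5.Fi23Mult.Chk2
import Cfsg.Agent.Lib.Helper5.Fi23Mult.ChkR
import Cfsg.Agent.Lib.Helper5.Fi23Mult.ChkT

/-! The checks for the stem extensions of `Fi23` that the kernel evaluates, put together -/
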